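import Groth.Agent.TopFG.Basic

/-! Topological finite generation of the fundamental group along a proper surjection. -/

set_option autoImplicit false
universe u
open CategoryTheory CategoryTheory.Limits AlgebraicGeometry MorphismProperty

noncomputable section

namespace Groth.Agent.TopFG

open Groth.Agent.FEtLib

/-- The open piece of a scheme with finitely many components. -/
def piece (T : Scheme.{u}) [Finite (_root_.ConnectedComponents T)] (c : _root_.ConnectedComponents T) : T.Opens :=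
  ⟨ConnectedComponents.mk ⁻¹' {c}, (isClopen_discrete {c}).2.preimage ConnectedComponents.continuous_coe⟩

theorem mem_piece {T : Scheme.{u}} [Finite (_root_.ConnectedComponents T)] {c : _root_.ConnectedComponents T} {t : T} :
    t ∈ piece T c ↔ ConnectedComponents.mk t = c := Iff.rfl

theorem isClosed_piece (T : Scheme.{u}) [Finite (_root_.ConnectedComponents T)] (c : _root_.ConnectedComponents T) :
    IsClosed (piece T c : Set T) :=
  (isClopen_discrete {c}).1.preimage ConnectedComponents.continuous_coe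

theorem connectedSpace_piece (T : Scheme.{u}) [Finite (_root_.ConnectedComponents T)]
    (c : _root_.ConnectedComponents T) : ConnectedSpace (piece T c) := by
  obtain ⟨x, rfl⟩ := ConnectedComponents.surjective_coe c
  have h : (piece T (ConnectedComponents.mk x) : Set T) = connectedComponent x :=
    connectedComponents_preimage_singleton
  have h' : _root_.IsConnected (piece T (ConnectedComponents.mk x) : Set T) := h ▸ isConnected_connectedComponent
  exact Subtype.connectedSpace h'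

theorem exists_lift_piece {T : Scheme.{u}} [Finite (_root_.ConnectedComponents T)] {K : Type u} [Field K]
    (c : _root_.ConnectedComponents T) (s : Spec (CommRingCat.of K) ⟶ T) (h : ConnectedComponents.mk (pt s) = c) :
    ∃ l : Spec (CommRingCat.of K) ⟶ (piece T c : Scheme.{u}), l ≫ (piece T c).ι = s :=
  ⟨IsOpenImmersion.lift (piece T c).ι s (by
    rintro _ ⟨z, rfl⟩
    rw [Scheme.Opens.range_ι, Subsingleton.elim z (IsLocalRing.closedPoint K)]
    exact h), IsOpenImmersion.lift_fac _ _ _⟩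

variable {S S' : Scheme.{u}} (g : S' ⟶ S)

section Member

variable {W : FEt.Cat S} (V : Set ↥(pullback W.hom g))

/-- Membership of the point given by a point of the cover and a point upstairs. -/
def Mem {K : Type u} [Field K] {κ : Spec (CommRingCat.of K) ⟶ S} (s : Spec (CommRingCat.of K) ⟶ S')
    (hs : s ≫ g = κ) (w : FEt.fiberObj κ W) : Prop :=
  pt (pullback.lift w.1 s (w.2.trans hs.symm)) ∈ V

theorem mem_push_iff (hV : IsClopen V) {T : Scheme.{u}} (m : T ⟶ S') {h : T ⟶ S} (hm : m ≫ g = h)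
    {K L : Type u} [Field K] [Field L]
    {a₀ : Spec (CommRingCat.of K) ⟶ T} {b₀ : Spec (CommRingCat.of L) ⟶ T} (r : FEt.fiber a₀ ≅ FEt.fiber b₀)
    {a : Spec (CommRingCat.of K) ⟶ S} {b : Spec (CommRingCat.of L) ⟶ S} (ha : a₀ ≫ h = a) (hb : b₀ ≫ h = b)
    {s₁ : Spec (CommRingCat.of K) ⟶ S'} {s₂ : Spec (CommRingCat.of L) ⟶ S'}
    (h₁ : a₀ ≫ m = s₁) (h₂ : b₀ ≫ m = s₂) (hs₁ : s₁ ≫ g = a) (hs₂ : s₂ ≫ g = b) (w : FEt.fiberObj a W) :
    Mem g V s₂ hs₂ (nmap (push h ha hb r).hom W w) ↔ Mem g V s₁ hs₁ w := by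
  have hc : pullback.fst W.hom h ≫ W.hom = (pullback.snd W.hom h ≫ m) ≫ g := by
    rw [Category.assoc, hm, pullback.condition]
  let μ : pullback W.hom h ⟶ pullback W.hom g :=
    pullback.lift (pullback.fst W.hom h) (pullback.snd W.hom h ≫ m) hc
  let Q : Set ((FEt.restrict h).obj W).left := μ ⁻¹' V
  have hQ : IsClopen Q := ⟨hV.1.preimage μ.continuous, hV.2.preimage μ.continuous⟩
  have key : ∀ {M : Type u} [Field M] {p₀ : Spec (CommRingCat.of M) ⟶ T} {p : Spec (CommRingCat.of M) ⟶ S}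
      (hp : p₀ ≫ h = p) {s : Spec (CommRingCat.of M) ⟶ S'} (hp' : p₀ ≫ m = s) (hs : s ≫ g = p)
      (x : FEt.fiberObj p₀ ((FEt.restrict h).obj W)),
      Mem g V s hs (bcE h hp W x) ↔ pt x.1 ∈ Q := by
    intro M _ p₀ p hp s hp' hs x
    let x' : Spec (CommRingCat.of M) ⟶ pullback W.hom h := x.1
    have hx : x' ≫ pullback.snd W.hom h = p₀ := x.2
    have he : pullback.lift (bcE h hp W x).1 s ((bcE h hp W x).2.trans hs.symm) = x' ≫ μ := by
      refine pullback.hom_ext ?_ ?_
      · rw [pullback.lift_fst, Category.assoc, pullback.lift_fst]; rfl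
      · rw [pullback.lift_snd, Category.assoc, pullback.lift_snd, ← Category.assoc, hx, hp']
    show pt (pullback.lift (bcE h hp W x).1 s _) ∈ V ↔ μ (pt x') ∈ V
    rw [he, pt_comp]
  rw [push_hom, key hb h₂ hs₂, nmap_mem_iff r.hom hQ, ← key ha h₁ hs₁, Equiv.apply_symm_apply]

end Member

section Proper

include g in
theorem finite_components_source [IsNoetherian S] [IsProper g] : Finite (_root_.ConnectedComponents S') :=
  haveI : IsLocallyNoetherian S' := LocallyOfFiniteType.isLocallyNoetherian g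
  haveI : CompactSpace S' := QuasiCompact.compactSpace_of_compactSpace g
  haveI : IsNoetherian S' := ⟨⟩
  finite_connectedComponents

end Proper

include g in
theorem exists_finset_topGenerates [IsNoetherian S] [ConnectedSpace S] [IsProper g] [Surjective g]
    (hfg : ∀ (C : S'.Opens), IsClosed (C : Set S') → ConnectedSpace C →
      ∀ (Ω : Type u) [Field Ω] [IsAlgClosed Ω] (η : Spec (CommRingCat.of Ω) ⟶ (C : Scheme.{u})),
        ∃ F : Finset (FEt.piOne (C : Scheme.{u}) η), PiSp.TopGenerates (F : Set (FEt.piOne (C : Scheme.{u}) η)))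
    {Ω : Type u} [Field Ω] [IsAlgClosed Ω] (ξ : Spec (CommRingCat.of Ω) ⟶ S) :
    ∃ F : Finset (FEt.piOne S ξ), PiSp.TopGenerates (F : Set (FEt.piOne S ξ)) := by
  haveI := finite_components_source g
  -- the components upstairs, with base points and paths to `ξ`
  let I := _root_.ConnectedComponents S'
  let C : I → S'.Opens := piece S'
  have hconn : ∀ i, ConnectedSpace (C i) := connectedSpace_piece S'
  have hbase : ∀ i, ∃ (K : Type u) (_ : Field K) (_ : IsAlgClosed K)
      (η : Spec (CommRingCat.of K) ⟶ (C i : Scheme.{u})), True := fun i => by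
    obtain ⟨x⟩ := (hconn i).toNonempty
    obtain ⟨K, iK, iC, η, -⟩ := exists_base_point (X := (C i : Scheme.{u})) x
    exact ⟨K, iK, iC, η, trivial⟩
  choose K iK iC η _ using hbase
  letI := iK; letI := iC
  let f : ∀ i, (C i : Scheme.{u}) ⟶ S := fun i => (C i).ι ≫ g
  let κ : ∀ i, Spec (CommRingCat.of (K i)) ⟶ S := fun i => η i ≫ f i
  let e : ∀ i, FEt.fiber ξ ≅ FEt.fiber (κ i) := fun i => (nonempty_fiber_iso ξ (κ i)).some
  choose G hG using fun i => hfg (C i) (isClosed_piece S' i) (hconn i) (K i) (η i)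
  let gen : ∀ i, FEt.piOne (C i : Scheme.{u}) (η i) → FEt.piOne S ξ := fun i τ =>
    e i ≪≫ push (f i) rfl rfl τ ≪≫ (e i).symm
  -- paths to arbitrary points upstairs
  have hpath : ∀ (L : Type u) [Field L] [IsAlgClosed L] (s : Spec (CommRingCat.of L) ⟶ S'),
      ∃ (i : I) (l : Spec (CommRingCat.of L) ⟶ (C i : Scheme.{u})),
        l ≫ (C i).ι = s ∧ Nonempty (FEt.fiber (η i) ≅ FEt.fiber l) := fun L _ _ s => by
    obtain ⟨l, hl⟩ := exists_lift_piece (ConnectedComponents.mk (pt s)) s rfl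
    haveI := hconn (ConnectedComponents.mk (pt s))
    exact ⟨_, l, hl, nonempty_fiber_iso _ _⟩
  choose idx lft hlft hp using hpath
  have hlift : ∀ (L : Type u) [Field L] [IsAlgClosed L] (s : Spec (CommRingCat.of L) ⟶ S')
      (k : Spec (CommRingCat.of L) ⟶ S), s ≫ g = k → lft L s ≫ f (idx L s) = k := fun L _ _ s k hs =>
    ((Category.assoc _ _ _).symm.trans (congrArg (· ≫ g) (hlft L s))).trans hs
  let ε : ∀ (L : Type u) [Field L] [IsAlgClosed L] (s : Spec (CommRingCat.of L) ⟶ S')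
      (k : Spec (CommRingCat.of L) ⟶ S), s ≫ g = k → (FEt.fiber ξ ≅ FEt.fiber k) := fun L _ _ s k hs =>
    e (idx L s) ≪≫ push (f (idx L s)) rfl (hlift L s k hs) (hp L s).some
  -- the double fibre product and its components
  let Y := pullback g g
  haveI : IsLocallyNoetherian Y := LocallyOfFiniteType.isLocallyNoetherian (pullback.fst g g ≫ g)
  haveI : CompactSpace Y := QuasiCompact.compactSpace_of_compactSpace (pullback.fst g g ≫ g)
  haveI : IsNoetherian Y := ⟨⟩
  haveI : Finite (_root_.ConnectedComponents Y) := finite_connectedComponents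
  let J := _root_.ConnectedComponents Y
  let D : J → Y.Opens := piece Y
  have hbase' : ∀ j, ∃ (L : Type u) (_ : Field L) (_ : IsAlgClosed L)
      (ζ : Spec (CommRingCat.of L) ⟶ (D j : Scheme.{u})), True := fun j => by
    obtain ⟨x⟩ := (connectedSpace_piece Y j).toNonempty
    obtain ⟨L, iL, iLC, ζ, -⟩ := exists_base_point (X := (D j : Scheme.{u})) x
    exact ⟨L, iL, iLC, ζ, trivial⟩
  choose L iL iLC ζ _ using hbase'
  letI := iL; letI := iLC
  let hD : ∀ j, (D j : Scheme.{u}) ⟶ S := fun j => ((D j).ι ≫ pullback.fst g g) ≫ g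
  have hD₂ : ∀ j, ((D j).ι ≫ pullback.snd g g) ≫ g = hD j := fun j => by
    simp only [hD, Category.assoc, pullback.condition]
  let ρ : ∀ j, Spec (CommRingCat.of (L j)) ⟶ S := fun j => ζ j ≫ hD j
  have hz₁ : ∀ j, (ζ j ≫ (D j).ι ≫ pullback.fst g g) ≫ g = ρ j := fun j => by
    simp only [ρ, hD, Category.assoc]
  have hz₂ : ∀ j, (ζ j ≫ (D j).ι ≫ pullback.snd g g) ≫ g = ρ j := fun j => by
    show _ = ζ j ≫ hD j
    rw [← hD₂ j]; simp only [Category.assoc]
  let γ : J → FEt.piOne S ξ := fun j =>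
    ε (L j) _ (ρ j) (hz₁ j) ≪≫ (ε (L j) _ (ρ j) (hz₂ j)).symm
  classical
  let Gen : Set (FEt.piOne S ξ) := (⋃ i, gen i '' (G i : Set (FEt.piOne (C i : Scheme.{u}) (η i)))) ∪ Set.range γ
  have hfin : Gen.Finite :=
    (Set.finite_iUnion fun i => (G i).finite_toSet.image _).union (Set.finite_range γ)
  refine ⟨hfin.toFinset, ?_⟩
  rw [hfin.coe_toFinset]
  refine topGenerates_of_clopen fun W A hA => ?_
  -- the clopens on the components
  let A' : ∀ i, Set (FEt.fiberObj (η i) ((FEt.restrict (f i)).obj W)) := fun i =>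
    {x | nmap (e i).inv W (bcE (f i) rfl W x) ∈ A}
  have hinv : ∀ i, ∀ τ ∈ (G i : Set (FEt.piOne (C i : Scheme.{u}) (η i))), ∀ x,
      (nmap τ.hom _ x ∈ A' i ↔ x ∈ A' i) := fun i τ hτ x => by
    have h := hA (gen i τ) (Or.inl (Set.mem_iUnion.2 ⟨i, τ, hτ, rfl⟩)) (nmap (e i).inv W (bcE (f i) rfl W x))
    have h2 : nmap (gen i τ).hom W (nmap (e i).inv W (bcE (f i) rfl W x)) =
        nmap (e i).inv W (bcE (f i) rfl W (nmap τ.hom _ x)) := by
      show nmap ((e i).hom ≫ (push (f i) rfl rfl τ).hom ≫ (e i).inv) W _ = _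
      rw [nmap_comp, nmap_comp, nmap_hom_inv, push_hom, Equiv.symm_apply_apply]
    rw [h2] at h
    exact h
  have hcl : ∀ i, ∃ U : Set ((FEt.restrict (f i)).obj W).left, IsClopen U ∧
      ∀ x, x ∈ A' i ↔ pt x.1 ∈ U := fun i => by
    haveI := hconn i
    exact exists_clopen_of_invariant (A' i) fun σ x hx => (mem_iff_of_topGenerates (hG i) (hinv i) σ x).2 hx
  choose Vc hVc hAc using hcl
  let P := pullback W.hom g
  let mi : ∀ i, pullback W.hom (f i) ⟶ P := fun i =>
    (pullbackLeftPullbackSndIso W.hom g (C i).ι).inv ≫ pullback.fst _ _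
  have hmi₁ : ∀ i, mi i ≫ pullback.fst W.hom g = pullback.fst W.hom (f i) := fun i => by
    exact (Category.assoc _ _ _).trans (pullbackLeftPullbackSndIso_inv_fst W.hom g (C i).ι)
  have hmi₂ : ∀ i, mi i ≫ pullback.snd W.hom g = pullback.snd W.hom (f i) ≫ (C i).ι := fun i => by
    simp [mi, f]
  have hrange : ∀ i, Set.range (mi i) = pullback.snd W.hom g ⁻¹' (C i : Set S') := fun i => by
    haveI : Surjective (pullbackLeftPullbackSndIso W.hom g (C i).ι).inv := inferInstance
    have h := Scheme.Pullback.range_fst (pullback.snd W.hom g) (C i).ι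
    rw [Scheme.Opens.range_ι] at h
    rw [← h]
    show Set.range ((pullbackLeftPullbackSndIso W.hom g (C i).ι).inv ≫ pullback.fst _ _) = _
    rw [Scheme.Hom.comp_base, TopCat.coe_comp,
      (pullbackLeftPullbackSndIso W.hom g (C i).ι).inv.surjective.range_comp]
  let Vs : ∀ i, Set ↥(pullback W.hom (f i)) := fun i => Vc i
  let V : Set P := ⋃ i, mi i '' Vs i
  have hdisj : ∀ i j y z, mi i y = mi j z → i = j := fun i j y z h => by
    have h1 : pullback.snd W.hom g (mi i y) ∈ C i := (hrange i).le ⟨y, rfl⟩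
    have h2 : pullback.snd W.hom g (mi j z) ∈ C j := (hrange j).le ⟨z, rfl⟩
    rw [h] at h1
    exact (mem_piece.1 h1).symm.trans (mem_piece.1 h2)
  have hmem : ∀ i y, mi i y ∈ V ↔ y ∈ Vs i := fun i y => by
    refine ⟨fun h => ?_, fun h => Set.mem_iUnion.2 ⟨i, y, h, rfl⟩⟩
    obtain ⟨j, z, hz, hzy⟩ := Set.mem_iUnion.1 h
    obtain rfl := hdisj _ _ _ _ hzy
    obtain rfl := (mi j).isOpenEmbedding.injective hzy
    exact hz
  have hV : IsClopen V := by
    refine ⟨⟨?_⟩, isOpen_iUnion fun i => (mi i).isOpenEmbedding.isOpenMap _ (hVc i).2⟩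
    have hc : Vᶜ = ⋃ i, mi i '' (Vs i)ᶜ := by
      ext p
      constructor
      · intro hp
        obtain ⟨y, hy⟩ := (hrange (ConnectedComponents.mk (pullback.snd W.hom g p))).ge
          (show p ∈ _ from (mem_piece (T := S')).2 rfl)
        exact Set.mem_iUnion.2 ⟨_, y, fun h => hp (hy ▸ (hmem _ _).2 h), hy⟩
      · intro hp hpV
        obtain ⟨i, y, hy, rfl⟩ := Set.mem_iUnion.1 hp
        exact hy ((hmem i y).1 hpV)
    rw [hc]
    exact isOpen_iUnion fun i => (mi i).isOpenEmbedding.isOpenMap _ (hVc i).1.isOpen_compl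
  -- membership at the base points
  have hbaseMem : ∀ i (w : FEt.fiberObj (κ i) W),
      Mem g V (η i ≫ (C i).ι) (Category.assoc _ _ _) w ↔ nmap (e i).inv W w ∈ A := fun i w => by
    let x := (bcE (f i) (rfl : η i ≫ f i = κ i) W).symm w
    have h1 : nmap (e i).inv W w ∈ A ↔ pt x.1 ∈ Vc i := by
      rw [← hAc i x]
      show _ ↔ nmap (e i).inv W (bcE (f i) rfl W x) ∈ A
      rw [Equiv.apply_symm_apply]
    rw [h1]
    have he : pullback.lift w.1 (η i ≫ (C i).ι) (w.2.trans (Category.assoc _ _ _).symm) =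
        pullback.lift w.1 (η i) w.2 ≫ mi i := by
      refine pullback.hom_ext ?_ ?_
      · rw [pullback.lift_fst, Category.assoc, hmi₁, pullback.lift_fst]
      · rw [pullback.lift_snd, Category.assoc, hmi₂, ← Category.assoc, pullback.lift_snd]
    show pt (pullback.lift w.1 _ _) ∈ V ↔ _
    rw [he, pt_comp, hmem]
    rfl
  have hkey : ∀ (M : Type u) [Field M] [IsAlgClosed M] (s : Spec (CommRingCat.of M) ⟶ S')
      (k : Spec (CommRingCat.of M) ⟶ S) (hs : s ≫ g = k) (w : FEt.fiberObj k W),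
      Mem g V s hs w ↔ nmap (ε M s k hs).inv W w ∈ A := fun M _ _ s k hs w => by
    let p := push (f (idx M s)) (rfl : η (idx M s) ≫ f (idx M s) = κ (idx M s)) (hlift M s k hs) (hp M s).some
    show _ ↔ nmap (p.inv ≫ (e (idx M s)).inv) W w ∈ A
    rw [nmap_comp, ← hbaseMem]
    conv_lhs => rw [← nmap_hom_inv p W w]
    exact mem_push_iff g V hV (C (idx M s)).ι rfl (hp M s).some rfl (hlift M s k hs) rfl (hlft M s)
      (Category.assoc _ _ _) hs _
  have hsat : ∀ (M : Type u) [Field M] [IsAlgClosed M] (s₁ s₂ : Spec (CommRingCat.of M) ⟶ S')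
      (k : Spec (CommRingCat.of M) ⟶ S) (h₁ : s₁ ≫ g = k) (h₂ : s₂ ≫ g = k) (w : FEt.fiberObj k W),
      Mem g V s₁ h₁ w ↔ Mem g V s₂ h₂ w := fun M _ _ s₁ s₂ k h₁ h₂ w => by
    let t := pullback.lift s₁ s₂ (h₁.trans h₂.symm)
    let j : J := ConnectedComponents.mk (pt t)
    obtain ⟨l, hl⟩ := exists_lift_piece j t rfl
    haveI := connectedSpace_piece Y j
    let r : FEt.fiber (ζ j) ≅ FEt.fiber l := (nonempty_fiber_iso (ζ j) l).some
    have hl₁ : l ≫ (D j).ι ≫ pullback.fst g g = s₁ := by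
      rw [← Category.assoc, hl, pullback.lift_fst]
    have hl₂ : l ≫ (D j).ι ≫ pullback.snd g g = s₂ := by
      rw [← Category.assoc, hl, pullback.lift_snd]
    have hlk : l ≫ hD j = k := by
      show l ≫ ((D j).ι ≫ pullback.fst g g) ≫ g = k
      rw [← Category.assoc, hl₁, h₁]
    let p := push (hD j) (rfl : ζ j ≫ hD j = ρ j) hlk r
    rw [← nmap_hom_inv p W w,
      mem_push_iff g V hV ((D j).ι ≫ pullback.fst g g) rfl r rfl hlk rfl hl₁ (hz₁ j) h₁,
      mem_push_iff g V hV ((D j).ι ≫ pullback.snd g g) (hD₂ j) r rfl hlk rfl hl₂ (hz₂ j) h₂,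
      hkey _ _ _ (hz₁ j), hkey _ _ _ (hz₂ j)]
    set w₀ := nmap p.inv W w
    have h := hA (γ j) (Or.inr ⟨j, rfl⟩) (nmap (ε (L j) _ (ρ j) (hz₁ j)).inv W w₀)
    have h' : nmap (γ j).hom W (nmap (ε (L j) _ (ρ j) (hz₁ j)).inv W w₀) =
        nmap (ε (L j) _ (ρ j) (hz₂ j)).inv W w₀ := by
      show nmap ((ε (L j) _ (ρ j) (hz₁ j)).hom ≫ (ε (L j) _ (ρ j) (hz₂ j)).inv) W _ = _
      rw [nmap_comp, nmap_hom_inv]
    rw [h'] at h
    exact h.symm
  -- descend the clopen
  have hsat' : ∀ p p' : P, pullback.fst W.hom g p = pullback.fst W.hom g p' → (p ∈ V ↔ p' ∈ V) :=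
    fun p p' hpp => by
    obtain ⟨z, hz₁', hz₂'⟩ := Scheme.Pullback.exists_preimage_pullback
      (f := pullback.fst W.hom g) (g := pullback.fst W.hom g) p p' hpp
    obtain ⟨M, iM, iMC, ω, hω⟩ := exists_base_point z
    let q₁ := ω ≫ pullback.fst (pullback.fst W.hom g) (pullback.fst W.hom g)
    let q₂ := ω ≫ pullback.snd (pullback.fst W.hom g) (pullback.fst W.hom g)
    have hq : q₂ ≫ pullback.fst W.hom g = q₁ ≫ pullback.fst W.hom g := by
      simp only [q₁, q₂, Category.assoc, pullback.condition]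
    let w : FEt.fiberObj ((q₁ ≫ pullback.fst W.hom g) ≫ W.hom) W := ⟨q₁ ≫ pullback.fst W.hom g, rfl⟩
    have h₁ : (q₁ ≫ pullback.snd W.hom g) ≫ g = (q₁ ≫ pullback.fst W.hom g) ≫ W.hom := by
      simp only [Category.assoc, pullback.condition]
    have h₂ : (q₂ ≫ pullback.snd W.hom g) ≫ g = (q₁ ≫ pullback.fst W.hom g) ≫ W.hom := by
      rw [← hq]; simp only [Category.assoc, pullback.condition]
    have h := hsat M (q₁ ≫ pullback.snd W.hom g) (q₂ ≫ pullback.snd W.hom g) _ h₁ h₂ w
    have e₁ : pullback.lift w.1 (q₁ ≫ pullback.snd W.hom g) (w.2.trans h₁.symm) = q₁ :=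
      pullback.hom_ext (pullback.lift_fst _ _ _) (pullback.lift_snd _ _ _)
    have e₂ : pullback.lift w.1 (q₂ ≫ pullback.snd W.hom g) (w.2.trans h₂.symm) = q₂ :=
      pullback.hom_ext ((pullback.lift_fst _ _ _).trans hq.symm) (pullback.lift_snd _ _ _)
    unfold Mem at h
    rw [e₁, e₂, pt_comp, pt_comp] at h
    have hω' : pt ω = z := hω
    rwa [hω', hz₁', hz₂'] at h
  let fst' := pullback.fst W.hom g
  have hU : IsClopen (fst' '' V) := ⟨fst'.isClosedMap _ hV.1, by
    have hc : fst' '' V = (fst' '' Vᶜ)ᶜ := by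
      ext y
      obtain ⟨p, rfl⟩ := fst'.surjective y
      exact ⟨fun ⟨q, hq, hqp⟩ ⟨q', hq', hqp'⟩ => hq' ((hsat' q q' (hqp.trans hqp'.symm)).1 hq),
        fun h => ⟨p, by_contra fun hp => h ⟨p, hp, rfl⟩, rfl⟩⟩
    rw [hc]
    exact (fst'.isClosedMap _ hV.compl.1).isOpen_compl⟩
  refine ⟨fst' '' V, hU, fun s => ?_⟩
  obtain ⟨x₀⟩ : Nonempty S := inferInstance
  obtain ⟨x, -⟩ := g.surjective x₀
  let i : I := ConnectedComponents.mk x
  have h := hbaseMem i (nmap (e i).hom W s)
  rw [nmap_inv_hom] at h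
  rw [← h, ← nmap_mem_iff (e i).hom hU s]
  set w := nmap (e i).hom W s
  unfold Mem
  have hw : pt w.1 = fst' (pt (pullback.lift w.1 (η i ≫ (C i).ι) (w.2.trans (Category.assoc _ _ _).symm))) := by
    rw [← pt_comp, pullback.lift_fst]
  rw [hw]
  exact ⟨fun hp => ⟨_, hp, rfl⟩, fun ⟨q, hq, hqp⟩ => (hsat' q _ hqp).1 hq⟩

end Groth.Agent.TopFG
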