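import Groth.Agent.FEtLib.Iso
import Groth.Agent.FEtLib.Restrict
import Groth.Prelude.Def_PiSp

/-! Transport of points of covers along paths, and a criterion for topological generation of the
fundamental group in terms of clopens. -/

set_option autoImplicit false
universe u
open CategoryTheory CategoryTheory.Limits AlgebraicGeometry MorphismProperty

noncomputable section

namespace Groth.Agent.TopFG

open Groth.Agent.FEtLib

variable {X : Scheme.{u}} {K L M : Type u} [Field K] [Field L] [Field M]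
  {a : Spec (CommRingCat.of K) ⟶ X} {b : Spec (CommRingCat.of L) ⟶ X} {c : Spec (CommRingCat.of M) ⟶ X}

/-- The image of the closed point. -/
abbrev pt {Y : Scheme.{u}} (s : Spec (CommRingCat.of K) ⟶ Y) : Y := s (IsLocalRing.closedPoint K)

theorem pt_comp {Y Z : Scheme.{u}} (s : Spec (CommRingCat.of K) ⟶ Y) (f : Y ⟶ Z) : pt (s ≫ f) = f (pt s) :=
  Scheme.Hom.comp_apply _ _ _

/-- A morphism of fibre functors on points. -/
def nmap (r : FEt.fiber a ⟶ FEt.fiber b) (W : FEt.Cat X) (s : FEt.fiberObj a W) : FEt.fiberObj b W :=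
  (r.app W) s

/-- Functoriality of fibres on points. -/
def fmap {W W' : FEt.Cat X} (φ : W ⟶ W') (s : FEt.fiberObj a W) : FEt.fiberObj a W' :=
  ((FEt.fiber a).map φ) s

theorem fmap_val {W W' : FEt.Cat X} (φ : W ⟶ W') (s : FEt.fiberObj a W) :
    (fmap φ s).1 = s.1 ≫ φ.left := rfl

theorem nmap_nat (r : FEt.fiber a ⟶ FEt.fiber b) {W W' : FEt.Cat X} (φ : W ⟶ W') (s : FEt.fiberObj a W) :
    nmap r W' (fmap φ s) = fmap φ (nmap r W s) :=
  congrArg (fun k : (FEt.fiber a).obj W ⟶ (FEt.fiber b).obj W' => k s) (r.naturality φ)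

theorem nmap_comp (r : FEt.fiber a ⟶ FEt.fiber b) (r' : FEt.fiber b ⟶ FEt.fiber c) (W : FEt.Cat X)
    (s : FEt.fiberObj a W) : nmap (r ≫ r') W s = nmap r' W (nmap r W s) := rfl

theorem nmap_id (W : FEt.Cat X) (s : FEt.fiberObj a W) : nmap (𝟙 (FEt.fiber a)) W s = s := rfl

theorem nmap_inv_hom (r : FEt.fiber a ≅ FEt.fiber b) (W : FEt.Cat X) (s : FEt.fiberObj a W) :
    nmap r.inv W (nmap r.hom W s) = s := by
  rw [← nmap_comp, Iso.hom_inv_id, nmap_id]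

theorem nmap_hom_inv (r : FEt.fiber a ≅ FEt.fiber b) (W : FEt.Cat X) (s : FEt.fiberObj b W) :
    nmap r.hom W (nmap r.inv W s) = s := by
  rw [← nmap_comp, Iso.inv_hom_id, nmap_id]

theorem nmap_mem_of_mem (r : FEt.fiber a ⟶ FEt.fiber b) {W : FEt.Cat X} {U : Set W.left} (hU : IsClopen U)
    (s : FEt.fiberObj a W) (h : pt s.1 ∈ U) : pt (nmap r W s).1 ∈ U := by
  let O : W.left.Opens := ⟨U, hU.2⟩
  let ι' := clopenPartι W O hU.1
  have hr : Set.range s.1 ⊆ Set.range O.ι := by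
    rintro _ ⟨z, rfl⟩
    rw [Scheme.Opens.range_ι, Subsingleton.elim z (IsLocalRing.closedPoint K)]
    exact h
  let l := IsOpenImmersion.lift O.ι s.1 hr
  let s' : FEt.fiberObj a (clopenPart W O hU.1) := ⟨l, by
    show l ≫ O.ι ≫ W.hom = a
    rw [← Category.assoc, IsOpenImmersion.lift_fac]; exact s.2⟩
  have hs : fmap ι' s' = s := Subtype.ext (IsOpenImmersion.lift_fac O.ι s.1 hr)
  rw [← hs, nmap_nat, fmap_val, pt_comp]
  exact (pt (nmap r _ s').1).2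

theorem nmap_mem_iff (r : FEt.fiber a ⟶ FEt.fiber b) {W : FEt.Cat X} {U : Set W.left} (hU : IsClopen U)
    (s : FEt.fiberObj a W) : pt (nmap r W s).1 ∈ U ↔ pt s.1 ∈ U :=
  ⟨fun h => by_contra fun h' => nmap_mem_of_mem r hU.compl s h' h, nmap_mem_of_mem r hU s⟩

section Push

variable {T : Scheme.{u}} (h : T ⟶ X)

/-- Points of a base change. -/
def bcE {a₀ : Spec (CommRingCat.of K) ⟶ T} (ha : a₀ ≫ h = a) (W : FEt.Cat X) :
    FEt.fiberObj a₀ ((FEt.restrict h).obj W) ≃ FEt.fiberObj a W where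
  toFun s := ⟨s.1 ≫ pullback.fst W.hom h, ((Category.assoc _ _ _).trans
    (congrArg (fun k => s.1 ≫ k) pullback.condition)).trans ((Category.assoc _ _ _).symm.trans
      ((congrArg (· ≫ h) s.2).trans ha))⟩
  invFun w := ⟨pullback.lift w.1 a₀ (w.2.trans ha.symm), pullback.lift_snd _ _ _⟩
  left_inv s := Subtype.ext (pullback.hom_ext (pullback.lift_fst _ _ _) ((pullback.lift_snd _ _ _).trans s.2.symm))
  right_inv w := Subtype.ext (pullback.lift_fst _ _ _)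

theorem bcE_fmap {a₀ : Spec (CommRingCat.of K) ⟶ T} (ha : a₀ ≫ h = a) {W W' : FEt.Cat X} (φ : W ⟶ W')
    (s : FEt.fiberObj a₀ ((FEt.restrict h).obj W)) :
    bcE h ha W' (fmap ((FEt.restrict h).map φ) s) = fmap φ (bcE h ha W s) :=
  Subtype.ext (((Category.assoc _ _ _).trans (congrArg (fun k => s.1 ≫ k) (restrict_map_left h φ))).trans
    (Category.assoc _ _ _).symm)

/-- A path pushed forward. -/
def push {a₀ : Spec (CommRingCat.of K) ⟶ T} {b₀ : Spec (CommRingCat.of L) ⟶ T} (ha : a₀ ≫ h = a)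
    (hb : b₀ ≫ h = b) (r : FEt.fiber a₀ ≅ FEt.fiber b₀) : FEt.fiber a ≅ FEt.fiber b :=
  NatIso.ofComponents
    (fun W => ((bcE h ha W).symm.trans ((r.app ((FEt.restrict h).obj W)).toEquiv.trans (bcE h hb W))).toIso)
    (fun {W W'} φ => ConcreteCategory.hom_ext _ _ fun w => by
      show bcE h hb W' (nmap r.hom _ ((bcE h ha W').symm (fmap φ w))) =
        fmap φ (bcE h hb W (nmap r.hom _ ((bcE h ha W).symm w)))
      rw [← bcE_fmap h hb, ← nmap_nat]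
      refine congrArg (fun k => bcE h hb W' (nmap r.hom _ k)) ((bcE h ha W').injective ?_)
      rw [bcE_fmap, Equiv.apply_symm_apply, Equiv.apply_symm_apply])

theorem push_hom {a₀ : Spec (CommRingCat.of K) ⟶ T} {b₀ : Spec (CommRingCat.of L) ⟶ T} (ha : a₀ ≫ h = a)
    (hb : b₀ ≫ h = b) (r : FEt.fiber a₀ ≅ FEt.fiber b₀) (W : FEt.Cat X) (w : FEt.fiberObj a W) :
    nmap (push h ha hb r).hom W w = bcE h hb W (nmap r.hom _ ((bcE h ha W).symm w)) := rfl

end Push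

section Criterion

variable [IsAlgClosed K] {ξ : Spec (CommRingCat.of K) ⟶ X}

theorem finite_fiberObj (W : FEt.Cat X) : Finite (FEt.fiberObj ξ W) :=
  haveI := finite_fib ξ W
  Finite.of_equiv _ (fibEquiv ξ W)

theorem exists_agree_nhd (σ : FEt.piOne X ξ) (W : FEt.Cat X) :
    IsOpen {τ : FEt.piOne X ξ | ∀ s, nmap τ.hom W s = nmap σ.hom W s} := by
  letI : ∀ Z : FEt.Cat X, TopologicalSpace (FEt.fiberObj ξ Z → FEt.fiberObj ξ Z) := fun _ => ⊥
  show @IsOpen _ (TopologicalSpace.induced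
    (fun (τ : FEt.piOne X ξ) (Z : FEt.Cat X) (s : FEt.fiberObj ξ Z) => nmap τ.hom Z s) inferInstance) _
  refine isOpen_induced_iff.2 ⟨(fun F => F W) ⁻¹' {f | ∀ s, f s = nmap σ.hom W s}, ?_, rfl⟩
  exact IsOpen.preimage (continuous_apply W) trivial

/-- Sets stable under generators are stable under the whole fundamental group. -/
theorem mem_iff_of_topGenerates {G : Set (FEt.piOne X ξ)} (hG : PiSp.TopGenerates G) {W : FEt.Cat X}
    {A : Set (FEt.fiberObj ξ W)} (hA : ∀ τ ∈ G, ∀ s, (nmap τ.hom W s ∈ A ↔ s ∈ A)) (σ : FEt.piOne X ξ)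
    (s : FEt.fiberObj ξ W) : nmap σ.hom W s ∈ A ↔ s ∈ A := by
  obtain ⟨τ, hτ, hτ'⟩ := hG.inter_open_nonempty _ (exists_agree_nhd σ W) ⟨σ, fun _ => rfl⟩
  rw [← hτ s]
  clear hτ
  revert s
  induction hτ' using Subgroup.closure_induction with
  | mem x hx => exact fun s => hA x hx s
  | one => exact fun s => Iff.rfl
  | mul x y _ _ hx hy =>
    intro s
    show nmap (y.hom ≫ x.hom) W s ∈ A ↔ s ∈ A
    rw [nmap_comp, hx, hy]
  | inv x _ hx =>
    intro s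
    show nmap x.inv W s ∈ A ↔ s ∈ A
    conv_rhs => rw [← nmap_hom_inv x W s]
    rw [hx]

variable (ξ) in
theorem exists_joint (P : Set (Σ Z : FEt.Cat X, FEt.fiberObj ξ Z)) (hP : P.Finite) :
    ∃ (W : FEt.Cat X) (w : FEt.fiberObj ξ W), ∀ p ∈ P, ∃ φ : W ⟶ p.1, fmap φ w = p.2 := by
  refine Set.Finite.induction_on _ hP ⟨one X, ⟨ξ, Category.comp_id ξ⟩, fun p hp => hp.elim⟩
    (fun {p P} _ _ ⟨W, w, hw⟩ => ?_)
  obtain ⟨c, hc₁, hc₂⟩ := exists_fib_prod ((fibEquiv ξ W).symm w) ((fibEquiv ξ p.1).symm p.2)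
  have e₁ : fmap prod.fst (fibEquiv ξ _ c) = w := Subtype.ext (congrArg (fun x : Fib ξ W => x.left) hc₁)
  have e₂ : fmap prod.snd (fibEquiv ξ _ c) = p.2 := Subtype.ext (congrArg (fun x : Fib ξ p.1 => x.left) hc₂)
  refine ⟨W ⨯ p.1, fibEquiv ξ _ c, fun q hq => ?_⟩
  rcases hq with rfl | hq
  · exact ⟨prod.snd, e₂⟩
  · obtain ⟨φ, hφ⟩ := hw q hq
    refine ⟨prod.fst ≫ φ, ?_⟩
    rw [← hφ, ← e₁]
    exact congrArg (fun k : (FEt.fiber ξ).obj (W ⨯ p.1) ⟶ _ => k (fibEquiv ξ _ c)) ((FEt.fiber ξ).map_comp _ _)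

/-- If every set stable under `G` is cut out by a clopen, then `G` generates topologically. -/
theorem topGenerates_of_clopen {G : Set (FEt.piOne X ξ)}
    (hG : ∀ (W : FEt.Cat X) (A : Set (FEt.fiberObj ξ W)), (∀ τ ∈ G, ∀ s, (nmap τ.hom W s ∈ A ↔ s ∈ A)) →
      ∃ U : Set W.left, IsClopen U ∧ ∀ s : FEt.fiberObj ξ W, s ∈ A ↔ pt s.1 ∈ U) :
    PiSp.TopGenerates G := by
  refine dense_iff_inter_open.2 fun O hO ⟨σ, hσ⟩ => ?_
  letI : ∀ Z : FEt.Cat X, TopologicalSpace (FEt.fiberObj ξ Z → FEt.fiberObj ξ Z) := fun _ => ⊥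
  replace hO : @IsOpen _ (TopologicalSpace.induced
    (fun (τ : FEt.piOne X ξ) (Z : FEt.Cat X) (s : FEt.fiberObj ξ Z) => nmap τ.hom Z s) inferInstance) O := hO
  obtain ⟨O', hO', rfl⟩ := isOpen_induced_iff.1 hO
  obtain ⟨I, v, hv, hsub⟩ := isOpen_pi_iff.1 hO' _ hσ
  have hP : {p : Σ Z : FEt.Cat X, FEt.fiberObj ξ Z | p.1 ∈ I}.Finite := by
    have h : {p : Σ Z : FEt.Cat X, FEt.fiberObj ξ Z | p.1 ∈ I} ⊆
        ⋃ Z ∈ (I : Set (FEt.Cat X)), Set.range fun s : FEt.fiberObj ξ Z => (⟨Z, s⟩ : Σ Z, FEt.fiberObj ξ Z) :=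
      fun p hp => Set.mem_biUnion hp ⟨p.2, rfl⟩
    exact (I.finite_toSet.biUnion fun Z _ => haveI := finite_fiberObj (ξ := ξ) Z; Set.finite_range _).subset h
  obtain ⟨W, w, hw⟩ := exists_joint ξ _ hP
  let A : Set (FEt.fiberObj ξ W) := {s | ∃ τ ∈ Subgroup.closure G, nmap τ.hom W w = s}
  obtain ⟨U, hU, hUA⟩ := hG W A fun τ hτ s => by
    constructor
    · rintro ⟨ρ, hρ, hρs⟩
      refine ⟨τ⁻¹ * ρ, mul_mem (inv_mem (Subgroup.subset_closure hτ)) hρ, ?_⟩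
      show nmap (ρ.hom ≫ τ.inv) W w = s
      rw [nmap_comp, hρs, nmap_inv_hom]
    · rintro ⟨ρ, hρ, rfl⟩
      exact ⟨τ * ρ, mul_mem (Subgroup.subset_closure hτ) hρ, rfl⟩
  obtain ⟨τ, hτ, hτw⟩ : nmap σ.hom W w ∈ A :=
    (hUA _).2 ((nmap_mem_iff σ.hom hU w).2 ((hUA w).1 ⟨1, one_mem _, rfl⟩))
  refine ⟨τ, ?_, hτ⟩
  refine hsub fun Z hZ => ?_
  have h : (fun s : FEt.fiberObj ξ Z => nmap τ.hom Z s) = fun s : FEt.fiberObj ξ Z => nmap σ.hom Z s := by
    funext s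
    obtain ⟨φ, hφ⟩ := hw ⟨Z, s⟩ hZ
    have hφ' : fmap φ w = s := hφ
    rw [← hφ', nmap_nat, nmap_nat, hτw]
  show (fun s : FEt.fiberObj ξ Z => nmap τ.hom Z s) ∈ v Z
  rw [h]
  exact (hv Z hZ).2

/-- A set stable under the fundamental group is cut out by a clopen. -/
theorem exists_clopen_of_invariant [PreconnectedSpace X] {W : FEt.Cat X} (A : Set (FEt.fiberObj ξ W))
    (hA : ∀ (σ : FEt.piOne X ξ), ∀ s ∈ A, nmap σ.hom W s ∈ A) :
    ∃ U : Set W.left, IsClopen U ∧ ∀ s : FEt.fiberObj ξ W, s ∈ A ↔ pt s.1 ∈ U := by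
  haveI := galoisCategory ξ
  have key : ∀ s : FEt.fiberObj ξ W, ∃ (Y : FEt.Cat X) (i : Y ⟶ W) (y : Fib ξ Y),
      fibEquiv ξ W (pmap i y) = s ∧ PreGaloisCategory.IsConnected Y ∧ Mono i := fun s => by
    obtain ⟨Y, i, y, hy, hYc, hi⟩ :=
      PreGaloisCategory.fiber_in_connected_component (fibF ξ) W ((fibEquiv ξ W).symm s)
    exact ⟨Y, i, y, ((congrArg (fibEquiv ξ W) hy).trans (Equiv.apply_symm_apply _ _)), hYc, hi⟩
  choose Y i y hy hYc hi using key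
  haveI := finite_fiberObj (ξ := ξ) W
  refine ⟨⋃ s : A, Set.range (i s.1).left,
    ⟨isClosed_iUnion_of_finite fun s => (i s.1).left.isClosedMap.isClosed_range,
     isOpen_iUnion fun s => (i s.1).left.isOpenMap.isOpen_range⟩, fun s => ⟨fun hs => ?_, fun hs => ?_⟩⟩
  · refine Set.mem_iUnion.2 ⟨⟨s, hs⟩, center (y s), ?_⟩
    rw [← center_pmap]
    exact congrArg (fun t : FEt.fiberObj ξ W => pt t.1) (hy s)
  · obtain ⟨⟨t, ht⟩, hst⟩ := Set.mem_iUnion.1 hs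
    obtain ⟨z, hz⟩ := exists_lift_of_mem_range (i t) ((fibEquiv ξ W).symm s) hst
    haveI := hYc t
    obtain ⟨ρ, hρ⟩ := MulAction.exists_smul_eq (Aut (fibF ξ)) (α := (fibF ξ).obj (Y t)) (y t) z
    let σ : FEt.piOne X ξ := (fibFIso ξ).symm ≪≫ Functor.isoWhiskerRight ρ FintypeCat.incl ≪≫ fibFIso ξ
    have h1 : nmap σ.hom (Y t) (fibEquiv ξ _ (y t)) = fibEquiv ξ _ z := congrArg (fibEquiv ξ (Y t)) hρ
    have h2 : nmap σ.hom W t = s := by
      rw [← hy t]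
      show nmap σ.hom W (fmap (i t) (fibEquiv ξ _ (y t))) = s
      rw [nmap_nat, h1]
      exact (congrArg (fibEquiv ξ W) hz).trans (Equiv.apply_symm_apply _ _)
    exact h2 ▸ hA σ t ht

end Criterion

end Groth.Agent.TopFG
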